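import Groth.Agent.Lib.FlatDepth.FibreStalk
import Groth.Agent.Lib.TensorMod.PullStalk
import Groth.Agent.Lib.ModM1.Coh

/-!
The fibre of a module at a point and flatness of the quotient by the maximal ideal of the base.
-/

set_option autoImplicit false
set_option linter.style.haveILetI false
set_option backward.isDefEq.respectTransparency false

universe u

open CategoryTheory CategoryTheory.Limits AlgebraicGeometry TensorProduct

namespace Groth.Agent.FibFlat5

section Alg

variable {A A' B B' M N : Type u} [CommRing A] [CommRing A'] [CommRing B] [CommRing B']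
  [Algebra A B] [Algebra A A'] [Algebra B B'] [Algebra A' B'] [Algebra A B']
  [IsScalarTower A B B'] [IsScalarTower A A' B']
  [AddCommGroup M] [Module B M] [Module A M] [IsScalarTower A B M]
  [AddCommGroup N] [Module B' N] [Module A' N] [IsScalarTower A' B' N]

theorem flat_quot_iff (hA : Function.Surjective (algebraMap A A')) (hB : Function.Surjective (algebraMap B B'))
    (I : Ideal A) (hI : I = RingHom.ker (algebraMap A A'))
    (hker : RingHom.ker (algebraMap B B') = I.map (algebraMap A B))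
    (e : B' ⊗[B] M ≃ₗ[B'] N) :
    Module.Flat (A ⧸ I) (M ⧸ (I • (⊤ : Submodule A M))) ↔ Module.Flat A' N := by
  let J : Ideal B := I.map (algebraMap A B)
  let q : (B ⧸ J) ≃ₐ[B] B' :=
    (Ideal.quotientEquivAlgOfEq B hker.symm).trans
      (Ideal.quotientKerAlgEquivOfSurjective (f := Algebra.ofId B B') hB)
  let e₁ : (M ⧸ (J • ⊤ : Submodule B M)) ≃ₗ[B] B' ⊗[B] M :=
    (TensorProduct.quotTensorEquivQuotSMul M J).symm ≪≫ₗ TensorProduct.congr q.toLinearEquiv (LinearEquiv.refl B M)
  let Φ : M →+ N := e.toLinearMap.toAddMonoidHom.comp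
    (e₁.toLinearMap ∘ₗ (J • ⊤ : Submodule B M).mkQ).toAddMonoidHom
  have hΦs : Function.Surjective Φ :=
    e.surjective.comp (e₁.surjective.comp (Submodule.mkQ_surjective _))
  have hΦ : ∀ m, Φ m = e (1 ⊗ₜ m) := fun m => by
    show e (e₁ (Submodule.Quotient.mk m)) = _
    refine congrArg e ?_
    show TensorProduct.congr q.toLinearEquiv (LinearEquiv.refl B M)
      ((TensorProduct.quotTensorEquivQuotSMul M J).symm (Submodule.Quotient.mk m)) = _
    rw [TensorProduct.quotTensorEquivQuotSMul_symm_mk, TensorProduct.congr_tmul]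
    show q 1 ⊗ₜ m = _
    rw [map_one]
  have hΦk : ∀ m, Φ m = 0 ↔ m ∈ (J • ⊤ : Submodule B M) := fun m => by
    show e (e₁ (Submodule.Quotient.mk m)) = 0 ↔ _
    rw [LinearEquiv.map_eq_zero_iff, LinearEquiv.map_eq_zero_iff, Submodule.Quotient.mk_eq_zero]
  have hlin : ∀ (a : A) m, Φ (a • m) = algebraMap A A' a • Φ m := fun a m => by
    rw [hΦ, hΦ, ← algebraMap_smul B a m, tmul_smul, ← algebraMap_smul B' (algebraMap A B a) ((1 : B') ⊗ₜ[B] m),
      map_smul, ← algebraMap_smul B' (algebraMap A A' a), ← IsScalarTower.algebraMap_apply,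
      ← IsScalarTower.algebraMap_apply]
  letI : Module A N := Module.compHom N (algebraMap A A')
  haveI : IsScalarTower A A' N := IsScalarTower.of_algebraMap_smul fun _ _ => rfl
  let ΦA : M →ₗ[A] N := { Φ with map_smul' := hlin }
  have hk : LinearMap.ker ΦA = I • (⊤ : Submodule A M) := by
    ext m
    rw [LinearMap.mem_ker, show ΦA m = Φ m from rfl, hΦk, ← Submodule.restrictScalars_top A B M, ← Submodule.restrictScalars_map_smul_eq]
    rfl
  let eM : (M ⧸ (I • (⊤ : Submodule A M))) ≃ₗ[A] N :=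
    Submodule.quotEquivOfEq _ _ hk.symm ≪≫ₗ ΦA.quotKerEquivOfSurjective hΦs
  let eA : (A ⧸ I) ≃+* A' := (Ideal.quotEquivOfEq hI).trans (RingHom.quotientKerEquivOfSurjective hA)
  letI : Module (A ⧸ I) N := Module.compHom N eA.toRingHom
  haveI : IsScalarTower A (A ⧸ I) N := IsScalarTower.of_algebraMap_smul fun _ _ => rfl
  let eM' : (M ⧸ (I • (⊤ : Submodule A M))) ≃ₗ[A ⧸ I] N :=
    eM.extendScalarsOfSurjective Ideal.Quotient.mk_surjective
  rw [Module.Flat.equiv_iff eM']
  letI : Algebra (A ⧸ I) A' := eA.toRingHom.toAlgebra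
  haveI : IsScalarTower (A ⧸ I) A' N := IsScalarTower.of_algebraMap_smul fun _ _ => rfl
  letI : Algebra A' (A ⧸ I) := eA.symm.toRingHom.toAlgebra
  haveI : IsScalarTower A' (A ⧸ I) N := IsScalarTower.of_algebraMap_smul fun a n => by
    show eA (eA.symm a) • n = a • n
    rw [RingEquiv.apply_symm_apply]
  haveI : Module.Flat (A ⧸ I) A' := RingHom.Flat.of_bijective eA.bijective
  haveI : Module.Flat A' (A ⧸ I) := RingHom.Flat.of_bijective eA.symm.bijective
  exact ⟨fun _ => Module.Flat.trans A' (A ⧸ I) N, fun _ => Module.Flat.trans (A ⧸ I) A' N⟩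

end Alg

variable {X Y S : Scheme.{u}}

theorem ker_stalkMap_fiberι (h : Y ⟶ S) {s : S} (v : h.fiber s) :
    RingHom.ker ((h.fiberι s).stalkMap v).hom =
      (IsLocalRing.maximalIdeal (S.presheaf.stalk (h (h.fiberι s v)))).map (h.stalkMap (h.fiberι s v)).hom := by
  have hfs : h (h.fiberι s v) = s := (h.range_fiberι s).le ⟨v, rfl⟩
  have key : ∀ (t : S) (ht : h (h.fiberι s v) = t),
      (IsLocalRing.maximalIdeal (S.presheaf.stalk t)).map (DivDesc12.σ h (h.fiberι s v) (specializes_of_eq ht)) =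
      (IsLocalRing.maximalIdeal (S.presheaf.stalk (h (h.fiberι s v)))).map (h.stalkMap (h.fiberι s v)).hom := by
    intro t ht
    subst ht
    rw [show DivDesc12.σ h (h.fiberι s v) (specializes_of_eq rfl) = (h.stalkMap _).hom from RingHom.ext fun a => by
        show h.stalkMap _ (DivDesc12.sp (specializes_of_eq rfl) a) = _
        rw [DivDesc12.sp_self]]
  rw [← key s hfs]
  ext b
  exact RingHom.mem_ker.trans
    (DivDesc12.stalkMap_fiberι_eq_zero_iff h _ hfs (specializes_of_eq hfs) v rfl b)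

/-- The quotient condition is flatness of the fibre module. -/
theorem flat_quot_iff_fibre (f : X ⟶ Y) (h : Y ⟶ S) {s : S}
    (fs : (f ≫ h).fiber s ⟶ h.fiber s) (w : fs ≫ h.fiberι s = (f ≫ h).fiberι s ≫ f)
    (F : X.Modules) (x' : ↥((f ≫ h).fiber s)) :
    (letI := FlatMod.moduleStalkOver f F ((f ≫ h).fiberι s x')
    let y := f ((f ≫ h).fiberι s x')
    let I := Ideal.map (h.stalkMap y).hom (IsLocalRing.maximalIdeal ↑(S.presheaf.stalk (h y)))
    Module.Flat (↑(Y.presheaf.stalk y) ⧸ I)
      (↑(F.presheaf.stalk ((f ≫ h).fiberι s x')) ⧸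
        (I • (⊤ : Submodule ↑(Y.presheaf.stalk y) ↑(F.presheaf.stalk ((f ≫ h).fiberι s x')))))) ↔
    FlatMod.IsFlatOverAt fs ((Scheme.Modules.pullback ((f ≫ h).fiberι s)).obj F) x' := by
  let ιX := (f ≫ h).fiberι s
  let ιY := h.fiberι s
  let x := ιX x'
  have hy : ιY (fs x') = f x := by rw [← Scheme.Hom.comp_apply, w]; rfl
  let A := Y.presheaf.stalk (f x)
  let B := X.presheaf.stalk x
  let A' := (h.fiber s).presheaf.stalk (fs x')
  let B' := ((f ≫ h).fiber s).presheaf.stalk x'
  let α : A →+* A' := (Y.presheaf.stalkSpecializes (specializes_of_eq hy) ≫ ιY.stalkMap (fs x')).hom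
  let β : B →+* B' := (ιX.stalkMap x').hom
  have hcomm : β.comp (f.stalkMap x).hom = (fs.stalkMap x').hom.comp α := by
    show (f.stalkMap (ιX x') ≫ ιX.stalkMap x').hom = ((Y.presheaf.stalkSpecializes _ ≫ ιY.stalkMap (fs x')) ≫ fs.stalkMap x').hom
    rw [← Scheme.Hom.stalkMap_comp, Category.assoc, ← Scheme.Hom.stalkMap_comp]
    exact congrArg CommRingCat.Hom.hom (Scheme.Hom.stalkMap_congr_hom _ _ w.symm x')
  have hα : Function.Surjective α :=
    (ιY.stalkMap_surjective _).comp (ConcreteCategory.bijective_of_isIso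
      (Y.presheaf.stalkCongr (.of_eq hy)).inv).2
  have hkα : (IsLocalRing.maximalIdeal (S.presheaf.stalk (h (f x)))).map (h.stalkMap (f x)).hom = RingHom.ker α := by
    have key : ∀ (y y₀ : Y) (e : y₀ = y) (γ : Y.presheaf.stalk y₀ →+* A'),
        RingHom.ker γ = (IsLocalRing.maximalIdeal (S.presheaf.stalk (h y₀))).map (h.stalkMap y₀).hom →
        (IsLocalRing.maximalIdeal (S.presheaf.stalk (h y))).map (h.stalkMap y).hom =
          RingHom.ker (γ.comp (Y.presheaf.stalkSpecializes (specializes_of_eq e)).hom) := by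
      intro y y₀ e γ hγ
      subst e
      rw [← hγ, TopCat.Presheaf.stalkSpecializes_refl]
      rfl
    exact key _ _ hy _ (ker_stalkMap_fiberι h (fs x'))
  letI : Algebra A B := (f.stalkMap x).hom.toAlgebra
  letI : Algebra A A' := α.toAlgebra
  letI : Algebra B B' := β.toAlgebra
  letI : Algebra A' B' := (fs.stalkMap x').hom.toAlgebra
  letI : Algebra A B' := (β.comp (f.stalkMap x).hom).toAlgebra
  haveI : IsScalarTower A B B' := IsScalarTower.of_algebraMap_eq fun _ => rfl
  haveI : IsScalarTower A A' B' := IsScalarTower.of_algebraMap_eq fun a => RingHom.congr_fun hcomm a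
  letI := FlatMod.moduleStalkOver f F x
  haveI : IsScalarTower A B (F.presheaf.stalk x : Type u) := IsScalarTower.of_algebraMap_smul fun _ _ => rfl
  letI := FlatMod.moduleStalkOver fs ((Scheme.Modules.pullback ιX).obj F) x'
  haveI : IsScalarTower A' B' (((Scheme.Modules.pullback ιX).obj F).presheaf.stalk x' : Type u) :=
    IsScalarTower.of_algebraMap_smul fun _ _ => rfl
  refine flat_quot_iff (A := A) (A' := A') (B := B) (B' := B') hα (ιX.stalkMap_surjective x') _ hkα ?_
    (M2.pullStalkEquiv ιX x' F)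
  show RingHom.ker β = _
  rw [ker_stalkMap_fiberι (f ≫ h) x', Ideal.map_map, Scheme.Hom.stalkMap_comp]
  rfl

end Groth.Agent.FibFlat5
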