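import Groth.Agent.Lib.ConsH13.ModEngine

/-!
Noetherian models of a morphism over an affine base together with a module on the source.
-/

universe u

open CategoryTheory CategoryTheory.Limits AlgebraicGeometry Topology Opposite
open Groth.Agent.LimH13 Groth.Agent.ConsH13

set_option linter.style.haveILetI false
set_option backward.isDefEq.respectTransparency false

namespace Groth.Agent.FibFlat5

/-- A morphism of schemes of finite presentation over an affine scheme with a module of finite
presentation on the source comes from a noetherian one. -/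
theorem exists_model (A : CommRingCat.{u}) {X Y : Scheme.{u}} (f : X ⟶ Y)
    (g : Y ⟶ Spec A) [LocallyOfFinitePresentation g] [QuasiCompact g] [QuasiSeparated g]
    [LocallyOfFinitePresentation (f ≫ g)] [QuasiCompact (f ≫ g)] [QuasiSeparated (f ≫ g)]
    (F : X.Modules) [Coh.IsQCoh F] (hF : CohB1.IsFP F) :
    ∃ (R : CommRingCat.{u}) (_ : IsNoetherianRing R) (π : Spec A ⟶ Spec R) (X' Y' : Scheme.{u})
      (f' : X' ⟶ Y') (g' : Y' ⟶ Spec R) (qX : X ⟶ X') (qY : Y ⟶ Y') (F' : X'.Modules),
      LocallyOfFiniteType g' ∧ QuasiCompact g' ∧ LocallyOfFiniteType (f' ≫ g') ∧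
        QuasiCompact (f' ≫ g') ∧ IsPullback qY g g' π ∧ IsPullback qX f f' qY ∧
        Coh.IsCoh F' ∧ Nonempty (F ≅ (Scheme.Modules.pullback qX).obj F') := by
  let c := approxCone A
  have hc : IsLimit c := isLimitApproxCone A
  haveI : CompactSpace X := QuasiCompact.compactSpace_of_compactSpace (f ≫ g)
  haveI : CompactSpace Y := QuasiCompact.compactSpace_of_compactSpace g
  haveI : QuasiSeparatedSpace X := quasiSeparatedSpace_of_quasiSeparated (f ≫ g)
  haveI : QuasiSeparatedSpace Y := quasiSeparatedSpace_of_quasiSeparated g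
  obtain ⟨i, X₀, u₀, qX, h1, h2, h3, h4⟩ :=
    hasModel_of_finitePresentation hc (X := X) (f ≫ g : X ⟶ c.pt)
  obtain ⟨j, Y₀, v₀, qY, k1, k2, k3, k4⟩ :=
    hasModel_of_finitePresentation hc (X := Y) (g : Y ⟶ c.pt)
  obtain ⟨X₁, u₁, qX₁, a1, a2, a3, a4⟩ := HasModel.stage (D := approxDiagram A) (c := c) h4 (IsCofiltered.minToLeft i j)
  obtain ⟨Y₁, v₁, qY₁, b1, b2, b3, b4⟩ := HasModel.stage (D := approxDiagram A) (c := c) k4 (IsCofiltered.minToRight i j)
  obtain ⟨k, φ, f₀, sX, sY, e1, e2, e3, e4, e5, e6⟩ :=
    exists_hom_descend hc _ u₁ v₁ qX₁ (f ≫ g) a4 qY₁ g b4 f rfl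
  have sqY : IsPullback sY g (pullback.snd v₁ (approxDiagram A |>.map φ)) (c.π.app k) :=
    IsPullback.of_right (by rw [e4, c.w]; exact b4) e5 (IsPullback.of_hasPullback _ _)
  have sqX : IsPullback sX (f ≫ g) (pullback.snd u₁ (approxDiagram A |>.map φ)) (c.π.app k) :=
    IsPullback.of_right (by rw [e2, c.w]; exact a4) e3 (IsPullback.of_hasPullback _ _)
  haveI : CompactSpace ↥(pullback u₁ (approxDiagram A |>.map φ)) := compactSpace_pullback_map φ u₁
  haveI : CompactSpace ↥(pullback v₁ (approxDiagram A |>.map φ)) := compactSpace_pullback_map φ v₁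
  -- descend the module
  let D := approxDiagram A
  let F₀ := Over.forget k
  let D' : Over k ⥤ Scheme.{u} := F₀ ⋙ D
  let c' : Cone D' := c.whisker F₀
  have hc' : IsLimit c' := (Functor.Initial.isLimitWhiskerEquiv F₀ c).symm hc
  let t : D' ⟶ (Functor.const (Over k)).obj (D.obj k) :=
    { app := fun l => D.map l.hom
      naturality := fun l m a => by
        show D.map a.left ≫ D.map m.hom = D.map l.hom ≫ 𝟙 _
        rw [← D.map_comp, Over.w, Category.comp_id] }
  have hq : ∀ l, c'.π.app l ≫ t.app l = c.π.app k := fun l => c.w l.hom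
  haveI : ∀ l, IsAffineHom (t.app l) := fun l => (inferInstanceAs (IsAffineHom (D.map l.hom)))
  let uX := pullback.snd u₁ (approxDiagram A |>.map φ)
  let uY := pullback.snd v₁ (approxDiagram A |>.map φ)
  haveI : ∀ (l m : Over k) (a : l ⟶ m), IsAffineHom ((Descend.pbDiagram D' t uX).map a) :=
    fun l m a => Descend.pb_isAffineHom_map D' t uX a
  let e := Descend.pbCone D' t uX c' hq sqX
  have he : IsLimit e := Descend.pbIsLimit D' t uX c' hq sqX hc'
  have hnoeth : ∀ l : Over k, IsNoetherianRing ((subFunctor A).obj l.left.unop) := fun l => inferInstance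
  haveI : LocallyOfFiniteType uX := inferInstanceAs (LocallyOfFiniteType (pullback.snd _ _))
  haveI : LocallyOfFiniteType uY := inferInstanceAs (LocallyOfFiniteType (pullback.snd _ _))
  haveI : QuasiCompact uX := (HasAffineProperty.iff_of_isAffine (P := @QuasiCompact)).2 inferInstance
  haveI : QuasiCompact uY := (HasAffineProperty.iff_of_isAffine (P := @QuasiCompact)).2 inferInstance
  haveI : QuasiSeparatedSpace ((approxDiagram A).obj k) := inferInstance
  haveI : ∀ l : Over k, IsLocallyNoetherian ((Descend.pbDiagram D' t uX).obj l) := fun l => by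
    haveI : IsLocallyNoetherian (D'.obj l) :=
      inferInstanceAs (IsLocallyNoetherian (Spec ((subFunctor A).obj l.left.unop)))
    exact LocallyOfFiniteType.isLocallyNoetherian (pullback.snd uX (t.app l))
  obtain ⟨l, -, Fl, hFl, hFlp, ⟨ei⟩⟩ :=
    ModLimH13.exists_module_descend_noetherian he (i₀ := Over.mk (𝟙 k)) (F : e.pt.Modules) hF
  let f'' : pullback uX (t.app l) ⟶ pullback uY (t.app l) :=
    pullback.lift (pullback.fst _ _ ≫ f₀) (pullback.snd _ _) (by rw [Category.assoc, e1, pullback.condition])
  have hcompl : f'' ≫ pullback.snd uY (t.app l) = pullback.snd uX (t.app l) := pullback.lift_snd _ _ _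
  have wY : sY ≫ uY = (g ≫ c'.π.app l) ≫ t.app l := by rw [Category.assoc, hq]; exact sqY.w
  let qY' : Y ⟶ pullback uY (t.app l) := pullback.lift sY (g ≫ c'.π.app l) wY
  have sqY' : IsPullback qY' g (pullback.snd uY (t.app l)) (c'.π.app l) := by
    refine IsPullback.of_right ?_ (pullback.lift_snd _ _ _) (IsPullback.of_hasPullback uY (t.app l))
    rw [pullback.lift_fst, hq]
    exact sqY
  have sqX' : IsPullback (e.π.app l) (f ≫ g) (pullback.snd uX (t.app l)) (c'.π.app l) :=
    Descend.pbCone_isPullback D' t uX c' hq sqX l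
  have hfst : e.π.app l ≫ pullback.fst uX (t.app l) = sX := pullback.lift_fst _ _ _
  have sqf : IsPullback (e.π.app l) f f'' qY' := by
    refine IsPullback.of_bot ?_ ?_ sqY'
    · rw [hcompl]; exact sqX'
    · apply pullback.hom_ext
      · simp only [Category.assoc, f'', qY', pullback.lift_fst, pullback.lift_fst_assoc]
        rw [← Category.assoc, hfst]
        exact e6
      · simp only [Category.assoc, f'', qY', pullback.lift_snd, pullback.lift_snd_assoc]
        rw [← Category.assoc]
        exact sqX'.w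
  haveI : LocallyOfFiniteType (pullback.snd uX (t.app l)) := MorphismProperty.pullback_snd _ _ inferInstance
  haveI : QuasiCompact (pullback.snd uX (t.app l)) := MorphismProperty.pullback_snd _ _ inferInstance
  refine ⟨(subFunctor A).obj l.left.unop, hnoeth l, c'.π.app l, pullback uX (t.app l), pullback uY (t.app l), f'',
    pullback.snd uY (t.app l), e.π.app l, qY', Fl, MorphismProperty.pullback_snd _ _ inferInstance,
    MorphismProperty.pullback_snd _ _ inferInstance, ?_, ?_, sqY', sqf, ⟨hFl, M1.isFP_isFT hFlp⟩, ⟨ei.symm⟩⟩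
  · rw [hcompl]; infer_instance
  · rw [hcompl]; infer_instance

end Groth.Agent.FibFlat5
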