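import Groth.Agent.Lib.FibFlat5.Loc
import Groth.Agent.Lib.FibFlat5.Model
import Groth.Agent.Lib.FlatH4.GenFlatScheme
import Groth.Agent.Lib.SchBasic.Basic
import Groth.Agent.Lib.LimH13.ArrowModel
import Groth.Agent.S4863

/-!
The locus of fibrewise flatness of a module is locally constructible (EGA IV 11.2.8).
-/

set_option autoImplicit false
set_option linter.style.haveILetI false
set_option backward.isDefEq.respectTransparency false
set_option maxHeartbeats 800000

universe u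

open CategoryTheory CategoryTheory.Limits AlgebraicGeometry TopologicalSpace Topology

namespace Groth.Agent.FibFlat5

theorem fibFlat_of_iso {X Y S : Scheme.{u}} (f : X ⟶ Y) (h : Y ⟶ S) {F G : X.Modules} (e : F ≅ G) (x : X)
    (hF : FibFlat f h F x) : FibFlat f h G x := by
  rw [← (f ≫ h).fiberι_asFiber x, fibFlat_iff] at hF ⊢
  exact SchDom.isFlatOverAt_of_iso _ ((Scheme.Modules.pullback _).mapIso e) _ hF

/-- Near the generic point of an integral base fibrewise flatness is flatness. -/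
theorem exists_open_spread {D : Type u} [CommRing D] [IsDomain D] [IsNoetherianRing D] {X Y : Scheme.{u}}
    (f : X ⟶ Y) (h : Y ⟶ Spec (CommRingCat.of D)) [LocallyOfFiniteType h]
    [LocallyOfFiniteType (f ≫ h)] [QuasiCompact (f ≫ h)] (F : X.Modules) [Coh.IsQCoh F] (hF : CohB1.IsFP F)
    (z : X) (hz : ((f ≫ h) z : PrimeSpectrum D).asIdeal = ⊥) :
    ∃ (b : Prop) (U : X.Opens), z ∈ U ∧ ∀ x, x ∈ closure {z} → x ∈ U → (FibFlat f h F x ↔ b) := by
  haveI : IsLocallyNoetherian Y := LocallyOfFiniteType.isLocallyNoetherian h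
  haveI : IsLocallyNoetherian X := LocallyOfFiniteType.isLocallyNoetherian (f ≫ h)
  haveI : LocallyOfFiniteType f := locallyOfFiniteType_of_comp f h
  haveI : LocallyOfFinitePresentation (f ≫ h) := LimH13.locallyOfFinitePresentation_of_noetherian _
  haveI : LocallyOfFinitePresentation f := LimH13.locallyOfFinitePresentation_of_noetherian _
  obtain ⟨V, ⟨p, hp⟩, hV⟩ := FlatH4.exists_open_isFlatOverAt (f ≫ h) F
    fun W hW => M1.finite_sections (M := F) ‹_› (M1.isFP_isFT hF) hW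
  have hzV : (f ≫ h) z ∈ V := by
    refine (((PrimeSpectrum.le_iff_specializes ((f ≫ h) z : PrimeSpectrum D) p).1 ?_)).mem_open V.2 hp
    show ((f ≫ h) z : PrimeSpectrum D).asIdeal ≤ p.asIdeal
    rw [hz]
    exact bot_le
  let W : X.Opens := ⟨{x | FlatMod.IsFlatOverAt f F x}, Groth.Agent.S4863.result f F hF⟩
  have key : ∀ x, (f ≫ h) x ∈ V → (FibFlat f h F x ↔ x ∈ W) := fun x hx =>
    ⟨isFlatOverAt_of_fibFlat f h F hF x (hV x hx), fibFlat_of_isFlatOverAt f h F x⟩
  by_cases hzW : z ∈ W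
  · exact ⟨True, W ⊓ (f ≫ h) ⁻¹ᵁ V, ⟨hzW, hzV⟩, fun x _ hx => iff_true_intro ((key x hx.2).2 hx.1)⟩
  · exact ⟨False, (f ≫ h) ⁻¹ᵁ V, hzV, fun x hx hxV => iff_false_intro fun hE =>
      hzW ((specializes_iff_mem_closure.2 hx).mem_open W.2 ((key x hxV).1 hE))⟩

theorem isConstructible_noetherian {R : CommRingCat.{u}} [IsNoetherianRing R] {X Y : Scheme.{u}}
    (f : X ⟶ Y) (h : Y ⟶ Spec R) [LocallyOfFiniteType h]
    [LocallyOfFiniteType (f ≫ h)] [QuasiCompact (f ≫ h)] (F : X.Modules) (hF : Coh.IsCoh F) :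
    IsConstructible {x : X | FibFlat f h F x} := by
  haveI := hF.1
  haveI : IsLocallyNoetherian X := LocallyOfFiniteType.isLocallyNoetherian (f ≫ h)
  haveI : CompactSpace X := QuasiCompact.compactSpace_of_compactSpace (f ≫ h)
  haveI : AlgebraicGeometry.IsNoetherian X := {}
  have hFP : CohB1.IsFP F := (M1.isCoh_iff_isFP F).1 hF
  refine ConsH13.isConstructible_of_generic _ fun Z hZ hZc => ?_
  let z := hZ.genericPoint
  have hgz : closure ({z} : Set X) = Z := hZ.closure_genericPoint hZc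
  let P : Ideal R := ((f ≫ h) z : PrimeSpectrum R).asIdeal
  haveI : P.IsPrime := ((f ≫ h) z : PrimeSpectrum R).2
  let i : Spec (CommRingCat.of (R ⧸ P)) ⟶ Spec R := Spec.map (CommRingCat.ofHom (Ideal.Quotient.mk P))
  haveI : IsClosedImmersion i := IsClosedImmersion.spec_of_surjective _ Ideal.Quotient.mk_surjective
  let b0 : Spec (CommRingCat.of (R ⧸ P)) := (⟨⊥, Ideal.isPrime_bot⟩ : PrimeSpectrum (R ⧸ P))
  have hi : i b0 = (f ≫ h) z := PrimeSpectrum.ext (by
    show (⊥ : Ideal (R ⧸ P)).comap (Ideal.Quotient.mk P) = P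
    exact Ideal.mk_ker)
  let π := pullback.fst (f ≫ h) i
  let fD : pullback (f ≫ h) i ⟶ pullback h i :=
    pullback.lift (π ≫ f) (pullback.snd (f ≫ h) i) ((Category.assoc _ _ _).trans pullback.condition)
  have hcompl : fD ≫ pullback.snd h i = pullback.snd (f ≫ h) i := pullback.lift_snd _ _ _
  haveI : LocallyOfFiniteType (fD ≫ pullback.snd h i) := by rw [hcompl]; infer_instance
  haveI : QuasiCompact (fD ≫ pullback.snd h i) := by rw [hcompl]; infer_instance
  have hc : IsPullback π fD f (pullback.fst h i) := by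
    refine IsPullback.of_bot ?_ (pullback.lift_fst _ _ _).symm (IsPullback.of_hasPullback h i)
    rw [hcompl]
    exact IsPullback.of_hasPullback (f ≫ h) i
  obtain ⟨zD, hzD, hfzD⟩ := Scheme.Pullback.exists_preimage_pullback (f := f ≫ h) (g := i) z b0 hi.symm
  haveI := M1.isQCoh_pullback π (M := F) inferInstance
  obtain ⟨b, UD, hzU, hUD⟩ := exists_open_spread fD (pullback.snd h i) ((Scheme.Modules.pullback π).obj F)
    (M1.isFP_pullback π hFP) zD (by rw [hcompl, hfzD])
  obtain ⟨U, hU, hUe⟩ := π.isEmbedding.isInducing.isOpen_iff.1 UD.2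
  have main : ∀ x ∈ Z ∩ U, (FibFlat f h F x ↔ b) := fun x hx => by
    obtain ⟨x', rfl⟩ : x ∈ Set.range π :=
      closure_minimal (t := Set.range π) (Set.singleton_subset_iff.2 ⟨zD, hzD⟩)
        π.isClosedEmbedding.isClosed_range (hgz.ge hx.1)
    rw [← fibFlat_baseChange f h F (IsPullback.of_hasPullback h i) hc x']
    refine hUD x' ?_ (hUe.le hx.2)
    rw [π.isEmbedding.closure_eq_preimage_closure_image, Set.image_singleton, Set.mem_preimage]
    rw [show π zD = z from hzD]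
    exact hgz.ge hx.1
  refine ⟨U, hU, ⟨z, hgz ▸ subset_closure rfl, ?_⟩, ?_⟩
  · rw [← hzD]
    exact hUe.ge hzU
  · by_cases hb : b
    · exact .inl fun x hx => (main x hx).2 hb
    · exact .inr fun x hx hE => hb ((main x hx).1 hE)

theorem isLocallyConstructible_affine {A : CommRingCat.{u}} {X Y : Scheme.{u}} (f : X ⟶ Y) (h : Y ⟶ Spec A)
    [LocallyOfFinitePresentation h] [QuasiCompact h] [QuasiSeparated h]
    [LocallyOfFinitePresentation (f ≫ h)] [QuasiCompact (f ≫ h)] [QuasiSeparated (f ≫ h)]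
    (F : X.Modules) [Coh.IsQCoh F] (hF : CohB1.IsFP F) :
    IsLocallyConstructible {x : X | FibFlat f h F x} := by
  obtain ⟨R, hR, π, X', Y', f', h', qX, qY, F', i1, i2, i3, i4, sqY, sqX, hF', ⟨e⟩⟩ := exists_model A f h F hF
  haveI := hR; haveI := i1; haveI := i3; haveI := i4; haveI := hF'.1
  rw [show {x : X | FibFlat f h F x} = qX ⁻¹' {x | FibFlat f' h' F' x} from Set.ext fun x =>
    Iff.trans ⟨fibFlat_of_iso f h e x, fibFlat_of_iso f h e.symm x⟩ (fibFlat_baseChange f' h' F' sqY sqX x)]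
  exact ConsH13.isLocallyConstructible_preimage qX (isConstructible_noetherian f' h' F' hF').isLocallyConstructible

/-- The locus of fibrewise flatness is locally constructible. -/
theorem isLocallyConstructible {X Y S : Scheme.{u}} (f : X ⟶ Y) (h : Y ⟶ S)
    [LocallyOfFinitePresentation h] [LocallyOfFinitePresentation (f ≫ h)]
    (F : X.Modules) [Coh.IsQCoh F] (hF : CohB1.IsFP F) :
    IsLocallyConstructible {x : X | FibFlat f h F x} := by
  intro x
  obtain ⟨T, hT, hsT, -⟩ := exists_isAffineOpen_mem_and_subset (X := S) (x := (f ≫ h) x) (U := ⊤) trivial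
  obtain ⟨V, hV, hyV, hVT⟩ := exists_isAffineOpen_mem_and_subset (X := Y) (x := f x) (U := h ⁻¹ᵁ T) hsT
  obtain ⟨U, hU, hxU, hUV⟩ := exists_isAffineOpen_mem_and_subset (X := X) (x := x) (U := f ⁻¹ᵁ V) hyV
  haveI : IsAffine (U : Scheme.{u}) := hU
  haveI : IsAffine (V : Scheme.{u}) := hV
  have hr : Set.range (V.ι ≫ h) ⊆ Set.range hT.fromSpec := by
    rintro _ ⟨u, rfl⟩
    rw [hT.range_fromSpec]
    exact hVT u.2
  let h₀ := IsOpenImmersion.lift hT.fromSpec (V.ι ≫ h) hr
  have hh₀ : h₀ ≫ hT.fromSpec = V.ι ≫ h := IsOpenImmersion.lift_fac _ _ _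
  let f₀ : (U : Scheme.{u}) ⟶ V := f.resLE V U hUV
  have hf₀ : f₀ ≫ V.ι = U.ι ≫ f := f.resLE_comp_ι hUV
  haveI : LocallyOfFinitePresentation h₀ := by
    haveI : LocallyOfFinitePresentation (h₀ ≫ hT.fromSpec) := by rw [hh₀]; infer_instance
    exact SchBasic.locallyOfFinitePresentation_of_comp h₀ hT.fromSpec
  haveI : LocallyOfFinitePresentation (f₀ ≫ h₀) := by
    haveI : LocallyOfFinitePresentation ((f₀ ≫ h₀) ≫ hT.fromSpec) := by
      rw [Category.assoc, hh₀, reassoc_of% hf₀]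
      infer_instance
    exact SchBasic.locallyOfFinitePresentation_of_comp (f₀ ≫ h₀) hT.fromSpec
  let F₀ := (Scheme.Modules.pullback U.ι).obj F
  haveI := M1.isQCoh_pullback U.ι (M := F) inferInstance
  haveI : Coh.IsQCoh F₀ := this
  have hsq : IsPullback (𝟙 (V : Scheme.{u})) h₀ (h₀ ≫ hT.fromSpec) hT.fromSpec :=
    ⟨⟨by simp⟩, ⟨PullbackCone.IsLimit.mk _ (fun c => c.fst) (fun c => by simp)
      (fun c => (cancel_mono hT.fromSpec).1 (by rw [Category.assoc]; exact c.condition))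
      (fun c l h1 _ => by simpa using h1)⟩⟩
  have hid : IsPullback (𝟙 (U : Scheme.{u})) f₀ f₀ (𝟙 _) := IsPullback.of_horiz_isIso ⟨by simp⟩
  have key : ∀ v : (U : Scheme.{u}), FibFlat f h F v.1 ↔ FibFlat f₀ h₀ F₀ v := fun v => by
    rw [show v.1 = U.ι v from rfl, ← fibFlat_openImmersion f h F U.ι V.ι hf₀ v, ← hh₀]
    exact ((fibFlat_baseChange f₀ (h₀ ≫ hT.fromSpec) F₀ hsq hid v).symm).trans
      ⟨fibFlat_of_iso f₀ h₀ ((Scheme.Modules.pullbackId _).app F₀) v,
        fibFlat_of_iso f₀ h₀ ((Scheme.Modules.pullbackId _).app F₀).symm v⟩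
  refine ⟨U, U.2.mem_nhds hxU, U.2, ?_⟩
  refine (congrArg IsConstructible (Set.ext fun v : U => (key v).symm)).mp
    (isLocallyConstructible_affine f₀ h₀ F₀ (M1.isFP_pullback U.ι hF)).isConstructible

end Groth.Agent.FibFlat5
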