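import Groth.Agent.Lib.FibFlat5.Quot
import Groth.Agent.Lib.FlatH4.PullFlat
import Groth.Agent.Lib.FlatH4.FlatComp
import Groth.Agent.Lib.SchDom.FlatStage
import Groth.Agent.Lib.Descend.BaseChangeAt

/-!
Fibrewise flatness at a point, and its invariance under base change and open immersions.
-/

set_option autoImplicit false
set_option linter.style.haveILetI false
set_option backward.isDefEq.respectTransparency false

universe u

open CategoryTheory CategoryTheory.Limits AlgebraicGeometry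

namespace Groth.Agent.FibFlat5

variable {X Y S : Scheme.{u}}

/-- The fibre module `F_s` is flat over `Y_s` at the point `x`. -/
def FibFlat (f : X ⟶ Y) (h : Y ⟶ S) (F : X.Modules) (x : X) : Prop :=
  letI := FlatMod.moduleStalkOver f F x
  Module.Flat (↑(Y.presheaf.stalk (f x)) ⧸ Ideal.map (h.stalkMap (f x)).hom (IsLocalRing.maximalIdeal ↑(S.presheaf.stalk (h (f x)))))
    (↑(F.presheaf.stalk x) ⧸ (Ideal.map (h.stalkMap (f x)).hom (IsLocalRing.maximalIdeal ↑(S.presheaf.stalk (h (f x)))) •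
      (⊤ : Submodule ↑(Y.presheaf.stalk (f x)) ↑(F.presheaf.stalk x))))

/-- The map on fibres over a point of the base. -/
noncomputable def fmap (f : X ⟶ Y) (h : Y ⟶ S) (s : S) : (f ≫ h).fiber s ⟶ h.fiber s :=
  pullback.lift ((f ≫ h).fiberι s ≫ f) ((f ≫ h).fiberToSpecResidueField s)
    ((Category.assoc _ _ _).trans pullback.condition)

theorem fmap_fst (f : X ⟶ Y) (h : Y ⟶ S) (s : S) : fmap f h s ≫ h.fiberι s = (f ≫ h).fiberι s ≫ f :=
  pullback.lift_fst _ _ _

theorem fmap_snd (f : X ⟶ Y) (h : Y ⟶ S) (s : S) :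
    fmap f h s ≫ h.fiberToSpecResidueField s = (f ≫ h).fiberToSpecResidueField s :=
  pullback.lift_snd _ _ _

theorem fmap_isPullback (f : X ⟶ Y) (h : Y ⟶ S) (s : S) :
    IsPullback ((f ≫ h).fiberι s) (fmap f h s) f (h.fiberι s) := by
  refine IsPullback.of_bot ?_ (fmap_fst f h s).symm (IsPullback.of_hasPullback h (S.fromSpecResidueField s))
  rw [show fmap f h s ≫ pullback.snd h (S.fromSpecResidueField s) = (f ≫ h).fiberToSpecResidueField s from fmap_snd f h s]
  exact IsPullback.of_hasPullback (f ≫ h) (S.fromSpecResidueField s)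

theorem fibFlat_iff (f : X ⟶ Y) (h : Y ⟶ S) (F : X.Modules) {s : S} (x' : ↥((f ≫ h).fiber s)) :
    FibFlat f h F ((f ≫ h).fiberι s x') ↔
      FlatMod.IsFlatOverAt (fmap f h s) ((Scheme.Modules.pullback ((f ≫ h).fiberι s)).obj F) x' :=
  flat_quot_iff_fibre f h (fmap f h s) (fmap_fst f h s) F x'

theorem fibFlat_of_isFlatOverAt (f : X ⟶ Y) (h : Y ⟶ S) (F : X.Modules) [Coh.IsQCoh F] (x : X)
    (hF : FlatMod.IsFlatOverAt f F x) : FibFlat f h F x := by
  rw [← (f ≫ h).fiberι_asFiber x, fibFlat_iff]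
  refine FlatH4.isFlatOverAt_baseChange (fmap_isPullback f h _) F _ ?_
  rwa [(f ≫ h).fiberι_asFiber]

theorem isFlatOverAt_of_fibFlat (f : X ⟶ Y) (h : Y ⟶ S) [LocallyOfFinitePresentation (f ≫ h)]
    [LocallyOfFiniteType h] (F : X.Modules) [Coh.IsQCoh F] (hfp : CohB1.IsFP F) (x : X)
    (hS : FlatMod.IsFlatOverAt (f ≫ h) F x) (hF : FibFlat f h F x) : FlatMod.IsFlatOverAt f F x := by
  rw [← (f ≫ h).fiberι_asFiber x] at hS hF ⊢
  refine FlatH4.isFlatOverAt_of_baseChange f h (IsPullback.of_hasPullback h (S.fromSpecResidueField _))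
    (g' := h.fiberToSpecResidueField _) ?_ (fmap_fst f h _).symm F hfp _ hS ((fibFlat_iff f h F _).1 hF)
  rw [fmap_snd]
  exact IsPullback.of_hasPullback (f ≫ h) (S.fromSpecResidueField _)

theorem flat_specMap_field {k k' : CommRingCat.{u}} (hk : IsField k) (φ : k ⟶ k') : Flat (Spec.map φ) := by
  letI := hk.toField
  rw [Flat.SpecMap_iff]
  letI := φ.hom.toAlgebra
  exact RingHom.flat_algebraMap_iff.2 (inferInstance : Module.Flat k k')

/-- Invariance under base change. -/
theorem fibFlat_baseChange {X' Y' S' : Scheme.{u}} (f : X ⟶ Y) (h : Y ⟶ S) (F : X.Modules) [Coh.IsQCoh F]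
    {f' : X' ⟶ Y'} {h' : Y' ⟶ S'} {pX : X' ⟶ X} {pY : Y' ⟶ Y} {pS : S' ⟶ S}
    (hY : IsPullback pY h' h pS) (hX : IsPullback pX f' f pY) (x' : X') :
    FibFlat f' h' ((Scheme.Modules.pullback pX).obj F) x' ↔ FibFlat f h F (pX x') := by
  set s' := (f' ≫ h') x' with hs'
  set s := pS s' with hs
  let τ : Spec (S'.residueField s') ⟶ Spec (S.residueField s) := Spec.map (pS.residueFieldMap s')
  have hτ : τ ≫ S.fromSpecResidueField s = S'.fromSpecResidueField s' ≫ pS :=
    pS.SpecMap_residueFieldMap_fromSpecResidueField s'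
  haveI : Flat τ := flat_specMap_field (Field.toIsField (S.residueField s)) _
  have hg : IsPullback pX (f' ≫ h') (f ≫ h) pS := hX.paste_vert hY
  have wY : (h'.fiberι s' ≫ pY) ≫ h = (h'.fiberToSpecResidueField s' ≫ τ) ≫ S.fromSpecResidueField s := by
    rw [Category.assoc, hY.w, Category.assoc, hτ, ← Category.assoc, ← Category.assoc]
    exact congrArg (· ≫ pS) pullback.condition
  let mY : h'.fiber s' ⟶ h.fiber s := pullback.lift _ _ wY
  have hmY : IsPullback mY (h'.fiberToSpecResidueField s') (h.fiberToSpecResidueField s) τ := by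
    refine IsPullback.of_right ?_ (pullback.lift_snd _ _ _) (IsPullback.of_hasPullback h (S.fromSpecResidueField s))
    rw [pullback.lift_fst, hτ]
    exact (IsPullback.of_hasPullback h' (S'.fromSpecResidueField s')).paste_horiz hY
  have wX : ((f' ≫ h').fiberι s' ≫ pX) ≫ f ≫ h =
      ((f' ≫ h').fiberToSpecResidueField s' ≫ τ) ≫ S.fromSpecResidueField s := by
    rw [Category.assoc, hg.w, Category.assoc _ τ, hτ, ← Category.assoc, ← Category.assoc]
    exact congrArg (· ≫ pS) pullback.condition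
  let mX : (f' ≫ h').fiber s' ⟶ (f ≫ h).fiber s := pullback.lift _ _ wX
  have hmX : IsPullback mX ((f' ≫ h').fiberToSpecResidueField s') ((f ≫ h).fiberToSpecResidueField s) τ := by
    refine IsPullback.of_right ?_ (pullback.lift_snd _ _ _) (IsPullback.of_hasPullback (f ≫ h) (S.fromSpecResidueField s))
    rw [pullback.lift_fst, hτ]
    exact (IsPullback.of_hasPullback (f' ≫ h') (S'.fromSpecResidueField s')).paste_horiz hg
  have hm1 : mX ≫ (f ≫ h).fiberι s = (f' ≫ h').fiberι s' ≫ pX := pullback.lift_fst _ _ _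
  have hm2 : mY ≫ h.fiberι s = h'.fiberι s' ≫ pY := pullback.lift_fst _ _ _
  have hsq : IsPullback mX (fmap f' h' s') (fmap f h s) mY := by
    refine IsPullback.of_bot ?_ ?_ hmY
    · rw [fmap_snd, fmap_snd]
      exact hmX
    · apply pullback.hom_ext
      · show (mX ≫ fmap f h s) ≫ h.fiberι s = (fmap f' h' s' ≫ mY) ≫ h.fiberι s
        rw [Category.assoc, fmap_fst, ← Category.assoc, hm1, Category.assoc, Category.assoc, hm2, hX.w,
          ← Category.assoc, ← Category.assoc, fmap_fst]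
      · show (mX ≫ fmap f h s) ≫ h.fiberToSpecResidueField s = (fmap f' h' s' ≫ mY) ≫ h.fiberToSpecResidueField s
        rw [Category.assoc, fmap_snd, Category.assoc, show mY ≫ h.fiberToSpecResidueField s = _ from hmY.w,
          ← Category.assoc, fmap_snd]
        exact hmX.w
  let z : ↥((f' ≫ h').fiber s') := (f' ≫ h').asFiber x'
  have hz : (f' ≫ h').fiberι s' z = x' := (f' ≫ h').fiberι_asFiber x'
  have hz2 : (f ≫ h).fiberι s (mX z) = pX x' := by
    rw [← Scheme.Hom.comp_apply, hm1, Scheme.Hom.comp_apply, hz]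
  haveI := M1.isQCoh_pullback ((f ≫ h).fiberι s) (M := F) inferInstance
  rw [← hz, fibFlat_iff, hz, ← hz2, fibFlat_iff]
  let eF : (Scheme.Modules.pullback ((f' ≫ h').fiberι s')).obj ((Scheme.Modules.pullback pX).obj F) ≅
      (Scheme.Modules.pullback mX).obj ((Scheme.Modules.pullback ((f ≫ h).fiberι s)).obj F) :=
    (Scheme.Modules.pullbackComp _ pX).app F ≪≫ (Scheme.Modules.pullbackCongr hm1.symm).app F ≪≫
      ((Scheme.Modules.pullbackComp mX _).app F).symm
  constructor
  · intro h1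
    haveI : Flat mY := MorphismProperty.of_isPullback hmY.flip ‹Flat τ›
    exact FlatH4.isFlatOverAt_of_baseChange_of_flat hsq _ z (Flat.stalkMap mY _)
      (SchDom.isFlatOverAt_of_iso _ eF z h1)
  · intro h1
    exact SchDom.isFlatOverAt_of_iso _ eF.symm z (FlatH4.isFlatOverAt_baseChange hsq _ z h1)

/-- A monomorphism on the right can be cancelled. -/
theorem isFlatOverAt_comp_mono_iff {Z : Scheme.{u}} (f : X ⟶ Y) (m : Y ⟶ Z) [IsOpenImmersion m]
    (G : X.Modules) [Coh.IsQCoh G] (x : X) :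
    FlatMod.IsFlatOverAt (f ≫ m) G x ↔ FlatMod.IsFlatOverAt f G x := by
  refine ⟨fun h => ?_, fun h => FlatH4.isFlatOverAt_comp f m G x (Flat.stalkMap m _) h⟩
  have hsq : IsPullback (𝟙 X) f (f ≫ m) m :=
    ⟨⟨by simp⟩, ⟨PullbackCone.IsLimit.mk _ (fun c => c.fst) (fun c => by simp)
      (fun c => (cancel_mono m).1 (by rw [Category.assoc]; exact c.condition))
      (fun c l h1 _ => by simpa using h1)⟩⟩
  exact SchDom.isFlatOverAt_of_iso _ ((Scheme.Modules.pullbackId X).app G) x
    (FlatH4.isFlatOverAt_baseChange hsq G x h)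

/-- Invariance under open immersions. -/
theorem fibFlat_openImmersion {U V : Scheme.{u}} (f : X ⟶ Y) (h : Y ⟶ S) (F : X.Modules) [Coh.IsQCoh F]
    {f' : U ⟶ V} (j : U ⟶ X) [IsOpenImmersion j] (k : V ⟶ Y) [IsOpenImmersion k] (w : f' ≫ k = j ≫ f) (u : U) :
    FibFlat f' (k ≫ h) ((Scheme.Modules.pullback j).obj F) u ↔ FibFlat f h F (j u) := by
  set s := (f' ≫ k ≫ h) u with hs
  let mY : (k ≫ h).fiber s ⟶ h.fiber s :=
    pullback.map _ _ _ _ k (𝟙 _) (𝟙 _) (Category.comp_id _) (by rw [Category.comp_id, Category.id_comp])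
  let mX : (f' ≫ k ≫ h).fiber s ⟶ (f ≫ h).fiber s :=
    pullback.map _ _ _ _ j (𝟙 _) (𝟙 _) (by rw [Category.comp_id, reassoc_of% w]) (by rw [Category.comp_id, Category.id_comp])
  haveI : IsOpenImmersion mY := inferInstanceAs (IsOpenImmersion (pullback.map _ _ _ _ _ _ _ _ _))
  haveI : IsOpenImmersion mX := inferInstanceAs (IsOpenImmersion (pullback.map _ _ _ _ _ _ _ _ _))
  have hm1 : mX ≫ (f ≫ h).fiberι s = (f' ≫ k ≫ h).fiberι s ≫ j := pullback.lift_fst _ _ _
  have hm2 : mY ≫ h.fiberι s = (k ≫ h).fiberι s ≫ k := pullback.lift_fst _ _ _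
  have hcomm : mX ≫ fmap f h s = fmap f' (k ≫ h) s ≫ mY := by
    apply pullback.hom_ext
    · show (mX ≫ fmap f h s) ≫ h.fiberι s = (fmap f' (k ≫ h) s ≫ mY) ≫ h.fiberι s
      rw [Category.assoc, fmap_fst, reassoc_of% hm1, Category.assoc, hm2,
        reassoc_of% (fmap_fst f' (k ≫ h) s), w]
    · show (mX ≫ fmap f h s) ≫ h.fiberToSpecResidueField s = (fmap f' (k ≫ h) s ≫ mY) ≫ h.fiberToSpecResidueField s
      rw [Category.assoc, fmap_snd, Category.assoc,
        show mY ≫ h.fiberToSpecResidueField s = (k ≫ h).fiberToSpecResidueField s ≫ 𝟙 _ from pullback.lift_snd _ _ _,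
        Category.comp_id, fmap_snd]
      exact (pullback.lift_snd _ _ _).trans (Category.comp_id _)
  let z : ↥((f' ≫ k ≫ h).fiber s) := (f' ≫ k ≫ h).asFiber u
  have hz : (f' ≫ k ≫ h).fiberι s z = u := (f' ≫ k ≫ h).fiberι_asFiber u
  have hz2 : (f ≫ h).fiberι s (mX z) = j u := by
    rw [← Scheme.Hom.comp_apply, hm1, Scheme.Hom.comp_apply, hz]
  haveI hq := M1.isQCoh_pullback ((f ≫ h).fiberι s) (M := F) inferInstance
  haveI := M1.isQCoh_pullback mX hq
  rw [← hz, fibFlat_iff, hz, ← hz2, fibFlat_iff]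
  let eF : (Scheme.Modules.pullback ((f' ≫ k ≫ h).fiberι s)).obj ((Scheme.Modules.pullback j).obj F) ≅
      (Scheme.Modules.pullback mX).obj ((Scheme.Modules.pullback ((f ≫ h).fiberι s)).obj F) :=
    (Scheme.Modules.pullbackComp _ j).app F ≪≫ (Scheme.Modules.pullbackCongr hm1.symm).app F ≪≫
      ((Scheme.Modules.pullbackComp mX _).app F).symm
  rw [← FlatH4.isFlatOverAt_pullback_comp_iff mX (fmap f h s) _ z (Flat.stalkMap mX _), hcomm,
    isFlatOverAt_comp_mono_iff]
  exact ⟨SchDom.isFlatOverAt_of_iso _ eF z, SchDom.isFlatOverAt_of_iso _ eF.symm z⟩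

end Groth.Agent.FibFlat5
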